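import Mathlib

/-!
# Linear disjointness of an extension and a purely transcendental extension (helper18)

`linearIndependent_adjoin`: if `x` is algebraically independent over `E ⊇ F`, an `F`-linearly
independent family of `E` stays linearly independent over `F(x)`.
`finiteDimensional_of_isAlgebraic`: an algebraic subextension of a finitely generated field
extension is finite.
-/

set_option autoImplicit false

namespace Groth.Agent.Lib.Helper18.LinSec
open IntermediateField

section LD
variable {F E Ω : Type*} [Field F] [Field E] [Field Ω] [Algebra F E] [Algebra E Ω] [Algebra F Ω]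
  [IsScalarTower F E Ω] {ι : Type*} (x : ι → Ω)

theorem exists_frac {c : Ω} (hc : c ∈ adjoin F (Set.range x)) :
    ∃ r t : MvPolynomial ι F, MvPolynomial.aeval x t ≠ 0 ∧
      c * MvPolynomial.aeval x t = MvPolynomial.aeval x r := by
  obtain ⟨r, t, rfl⟩ := (mem_adjoin_range_iff F x c).mp hc
  by_cases ht : MvPolynomial.aeval x t = 0
  · refine ⟨0, 1, by simp, ?_⟩
    rw [ht, div_zero]; simp
  · exact ⟨r, t, ht, div_mul_cancel₀ _ ht⟩

theorem exists_common_denom {I : Type*} (s : Finset I) (c : I → Ω)
    (hc : ∀ i ∈ s, c i ∈ adjoin F (Set.range x)) :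
    ∃ q : MvPolynomial ι F, MvPolynomial.aeval x q ≠ 0 ∧
      ∀ i ∈ s, ∃ p : MvPolynomial ι F, c i * MvPolynomial.aeval x q = MvPolynomial.aeval x p := by
  classical
  induction s using Finset.induction_on with
  | empty => exact ⟨1, by simp, by simp⟩
  | insert i₀ s hi₀ ih =>
    obtain ⟨q, hq, hp⟩ := ih (fun i hi => hc i (Finset.mem_insert_of_mem hi))
    obtain ⟨r, t, ht, hrt⟩ := exists_frac (F := F) x (hc i₀ (Finset.mem_insert_self _ _))
    refine ⟨q * t, by rw [map_mul]; exact mul_ne_zero hq ht, ?_⟩
    intro i hi
    rcases Finset.mem_insert.mp hi with rfl | hi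
    · refine ⟨r * q, ?_⟩
      rw [map_mul, map_mul, ← hrt]; ring
    · obtain ⟨p, hp⟩ := hp i hi
      refine ⟨p * t, ?_⟩
      rw [map_mul, map_mul, ← hp]; ring

/-- **Linear disjointness**: if `x` is algebraically independent over `E`, then an `F`-linearly
independent family of `E` is linearly independent over `F(x)` inside `Ω`. -/
theorem linearIndependent_adjoin (hx : AlgebraicIndependent E x) {I : Type*} (e : I → E)
    (he : LinearIndependent F e) :
    LinearIndependent ↥(adjoin F (Set.range x)) (fun i => algebraMap E Ω (e i)) := by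
  classical
  rw [linearIndependent_iff']
  intro s c hc i hi
  obtain ⟨q, hq, hp⟩ := exists_common_denom (F := F) x s (fun i => (c i : Ω))
    (fun i _ => (c i).2)
  choose! p hp using hp
  have hc' : ∑ i ∈ s, (c i : Ω) * algebraMap E Ω (e i) = 0 := by
    rw [← hc]
    refine Finset.sum_congr rfl fun i _ => ?_
    rw [Algebra.smul_def]; rfl
  have hP : ∑ i ∈ s, MvPolynomial.map (algebraMap F E) (p i) * MvPolynomial.C (e i) = 0 := by
    apply hx
    rw [map_zero, map_sum]
    calc ∑ i ∈ s, MvPolynomial.aeval x
            (MvPolynomial.map (algebraMap F E) (p i) * MvPolynomial.C (e i))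
        = ∑ i ∈ s, MvPolynomial.aeval x q * ((c i : Ω) * algebraMap E Ω (e i)) := by
          refine Finset.sum_congr rfl fun i hi => ?_
          rw [map_mul, MvPolynomial.aeval_C, MvPolynomial.aeval_map_algebraMap, ← hp i hi]; ring
      _ = 0 := by rw [← Finset.mul_sum, hc', mul_zero]
  have hcoef : ∀ i ∈ s, p i = 0 := by
    intro i hi
    ext d
    have h2 := congrArg (fun P => MvPolynomial.coeff d P) hP
    simp only [MvPolynomial.coeff_sum, mul_comm _ (MvPolynomial.C _), MvPolynomial.coeff_C_mul,
      MvPolynomial.coeff_map, MvPolynomial.coeff_zero] at h2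
    have h3 : ∑ i ∈ s, (MvPolynomial.coeff d (p i)) • e i = 0 := by
      rw [← h2]
      refine Finset.sum_congr rfl fun i _ => ?_
      rw [Algebra.smul_def, mul_comm]
    have := linearIndependent_iff'.mp he s (fun i => MvPolynomial.coeff d (p i)) h3 i hi
    simpa using this
  have h4 := hp i hi
  rw [hcoef i hi, map_zero] at h4
  rcases mul_eq_zero.mp h4 with h | h
  · exact Subtype.ext h
  · exact absurd h hq

end LD

/-- An algebraic subextension of a finitely generated field extension is finite. -/
theorem finiteDimensional_of_isAlgebraic {K₀ Ω : Type*} [Field K₀] [Field Ω] [Algebra K₀ Ω]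
    [Algebra.EssFiniteType K₀ Ω] (M : IntermediateField K₀ Ω) [Algebra.IsAlgebraic K₀ M] :
    FiniteDimensional K₀ M := by
  classical
  obtain ⟨s, hs⟩ := IntermediateField.fg_top K₀ Ω
  have : Algebra.IsAlgebraic (Algebra.adjoin K₀ (s : Set Ω)) Ω := by
    rw [← isAlgebraic_adjoin_iff_top, hs, Algebra.isAlgebraic_iff_isIntegral]
    exact Algebra.isIntegral_of_surjective topEquiv.surjective
  obtain ⟨t, hts, ht⟩ := exists_isTranscendenceBasis_subset (R := K₀) (s : Set Ω)
  lift t to Finset Ω using s.finite_toSet.subset hts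
  have hfin : Module.Finite (adjoin K₀ (t : Set Ω)) Ω := by
    apply +allowSynthFailures Algebra.finite_of_essFiniteType_of_isAlgebraic
    · exact .of_comp K₀ _ _
    · convert! ht.isAlgebraic_field <;> simp
  have hx : AlgebraicIndependent K₀ (Subtype.val : ↥(↑t : Set Ω) → Ω) := ht.1
  have hx' : AlgebraicIndependent M (Subtype.val : ↥(↑t : Set Ω) → Ω) := hx.extendScalars M
  let b := Module.Free.chooseBasis K₀ M
  have hli := linearIndependent_adjoin (F := K₀) (E := M) (Ω := Ω)
    (Subtype.val : ↥(↑t : Set Ω) → Ω) hx' b b.linearIndependent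
  rw [Subtype.range_coe] at hli
  haveI := hli.finite
  exact Module.Finite.of_basis b

end Groth.Agent.Lib.Helper18.LinSec
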