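import Mathlib
import Groth.Agent.S2150
import Groth.Agent.Lib.Helper22.RatFuncIrr
import Groth.Agent.Lib.Helper18.LinSec.LD

/-!
# Separable closedness and purely transcendental extensions (helper18)

`SC L M` (for subsets `L M` of a field `Ω`): every element of `M` which is a root of a separable
polynomial with coefficients in `L` lies in `L`.
`sc_adjoin`: if `F` is separably closed in `E` and `x` is algebraically independent over `E`, then
`F(x)` is separably closed in `E(x)`.
-/

set_option autoImplicit false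
set_option linter.style.haveILetI false

namespace Groth.Agent.Lib.Helper18.LinSec
open IntermediateField TensorProduct

universe u

/-- Every element of `M` which is a root of a separable polynomial with coefficients in `L`
lies in `L`. -/
def SC {Ω : Type*} [Field Ω] (L M : Set Ω) : Prop :=
  ∀ (p : Polynomial Ω) (α : Ω), α ∈ M → (∀ i, p.coeff i ∈ L) → p.Separable → p.eval α = 0 → α ∈ L

theorem SC.mono {Ω : Type*} [Field Ω] {L M M' : Set Ω} (h : SC L M) (hM : M' ⊆ M) : SC L M' :=
  fun p α hα hc hs he => h p α (hM hα) hc hs he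

theorem isSeparable_iff_exists_poly {A Ω : Type*} [Field A] [Field Ω] [Algebra A Ω] (α : Ω) :
    IsSeparable A α ↔ ∃ p : Polynomial Ω, (∀ i, p.coeff i ∈ Set.range (algebraMap A Ω)) ∧
      p.Separable ∧ p.eval α = 0 := by
  constructor
  · intro h
    refine ⟨(minpoly A α).map (algebraMap A Ω), fun i => ?_, Polynomial.Separable.map h, ?_⟩
    · rw [Polynomial.coeff_map]; exact ⟨_, rfl⟩
    · rw [Polynomial.eval_map, ← Polynomial.aeval_def, minpoly.aeval]
  · rintro ⟨p, hc, hs, he⟩
    have hp : p ∈ Polynomial.lifts (algebraMap A Ω) := by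
      rw [Polynomial.lifts_iff_coeff_lifts]
      intro n; exact hc n
    obtain ⟨q, rfl⟩ := (Polynomial.mem_lifts p).mp hp
    have hq : q.Separable := (Polynomial.separable_map (algebraMap A Ω)).mp hs
    have h0 : Polynomial.aeval α q = 0 := by
      rw [Polynomial.aeval_def, ← Polynomial.eval_map]; exact he
    exact hq.of_dvd (minpoly.dvd A α h0)

/-- Bridge between `SC` and the element-wise formulation for a tower `A → B → Ω`. -/
theorem sc_range_iff {A B Ω : Type*} [Field A] [Field B] [Field Ω] [Algebra A B] [Algebra B Ω]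
    [Algebra A Ω] [IsScalarTower A B Ω] :
    SC (Set.range (algebraMap A Ω)) (Set.range (algebraMap B Ω)) ↔
      ∀ β : B, IsSeparable A β → β ∈ Set.range (algebraMap A B) := by
  have hinj : Function.Injective (IsScalarTower.toAlgHom A B Ω) := (algebraMap B Ω).injective
  constructor
  · intro h β hβ
    have h1 : IsSeparable A (algebraMap B Ω β) := hβ.map (IsScalarTower.toAlgHom A B Ω) hinj
    obtain ⟨p, hc, hs, he⟩ := (isSeparable_iff_exists_poly _).mp h1
    obtain ⟨a, ha⟩ := h p _ ⟨β, rfl⟩ hc hs he
    refine ⟨a, (algebraMap B Ω).injective ?_⟩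
    rw [← IsScalarTower.algebraMap_apply, ha]
  · rintro h p _ ⟨β, rfl⟩ hc hs he
    have h1 : IsSeparable A (IsScalarTower.toAlgHom A B Ω β) :=
      (isSeparable_iff_exists_poly _).mpr ⟨p, hc, hs, he⟩
    obtain ⟨a, rfl⟩ := h β ((isSeparable_map_iff _ hinj).mp h1)
    exact ⟨a, IsScalarTower.algebraMap_apply A B Ω a⟩

theorem sc_univ_iff {A Ω : Type*} [Field A] [Field Ω] [Algebra A Ω] :
    SC (Set.range (algebraMap A Ω)) Set.univ ↔
      ∀ β : Ω, IsSeparable A β → β ∈ Set.range (algebraMap A Ω) := by
  have := sc_range_iff (A := A) (B := Ω) (Ω := Ω)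
  rwa [Algebra.algebraMap_self, RingHom.coe_id, Set.range_id] at this

theorem range_algebraMap_intermediateField {k Ω : Type*} [Field k] [Field Ω] [Algebra k Ω]
    (X : IntermediateField k Ω) : Set.range (algebraMap ↥X Ω) = (X : Set Ω) := by
  ext z
  constructor
  · rintro ⟨y, rfl⟩; exact y.2
  · intro hz; exact ⟨⟨z, hz⟩, rfl⟩

theorem sc_intermediateField_iff {k Ω : Type*} [Field k] [Field Ω] [Algebra k Ω]
    (X : IntermediateField k Ω) :
    SC (X : Set Ω) Set.univ ↔ ∀ β : Ω, IsSeparable ↥X β → β ∈ Set.range (algebraMap ↥X Ω) := by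
  rw [← sc_univ_iff, range_algebraMap_intermediateField]

section Abstract

variable {F E kt Kt : Type u} [Field F] [Field E] [Field kt] [Field Kt] [Algebra F E]
  [Algebra F kt] [Algebra kt Kt] [Algebra F Kt] [Algebra E Kt] [IsScalarTower F kt Kt]
  [IsScalarTower F E Kt]

/-- Abstract form: if `kt ⊗_F E → Kt` is injective and `Kt` consists of fractions of its image,
then separable closedness of `F` in `E` passes to `kt` in `Kt`. -/
theorem sepClosed_of_fractions
    (j : kt ⊗[F] E →ₐ[kt] Kt) (hj : Function.Injective j)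
    (hfr : ∀ z : Kt, ∃ a s : kt ⊗[F] E, j s ≠ 0 ∧ z * j s = j a)
    (h : ∀ α : E, IsSeparable F α → α ∈ Set.range (algebraMap F E)) :
    ∀ β : Kt, IsSeparable kt β → β ∈ Set.range (algebraMap kt Kt) := by
  have hgeom : ∀ (L : Type u) [Field L] [Algebra kt L],
      IrreducibleSpace (PrimeSpectrum (L ⊗[kt] Kt)) := by
    intro L _ _
    letI : Algebra F L := ((algebraMap kt L).comp (algebraMap F kt)).toAlgebra
    haveI : IsScalarTower F kt L := IsScalarTower.of_algebraMap_eq (fun _ => rfl)
    haveI := (Groth.Agent.S2150.result.mpr h) L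
    haveI : IrreducibleSpace (PrimeSpectrum (L ⊗[kt] (kt ⊗[F] E))) :=
      Groth.Agent.S9627.irr_of_equiv
        (Algebra.TensorProduct.cancelBaseChange F kt kt L E).toRingEquiv
    exact Groth.Agent.Lib.Helper22.RatFuncIrr.irr_tensor_of_fractions j hj hfr
  exact Groth.Agent.S2150.result.mp hgeom

end Abstract

section T3
variable {F E Ω : Type u} [Field F] [Field E] [Field Ω] [Algebra F E] [Algebra E Ω] [Algebra F Ω]
  [IsScalarTower F E Ω] {ι : Type*} (x : ι → Ω)

theorem adjoin_le_adjoin_restrictScalars :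
    adjoin F (Set.range x) ≤ (adjoin E (Set.range x)).restrictScalars F := by
  rw [adjoin_le_iff]
  exact subset_adjoin E _

/-- The inclusion `F(x) → E(x)`. -/
def incl : ↥(adjoin F (Set.range x)) →+* ↥(adjoin E (Set.range x)) where
  toFun := fun z => ⟨z.1, adjoin_le_adjoin_restrictScalars (F := F) (E := E) x z.2⟩
  map_one' := rfl
  map_mul' := fun _ _ => rfl
  map_zero' := rfl
  map_add' := fun _ _ => rfl

/-- If `F` is separably closed in `E` and `x` is algebraically independent over `E`, then `F(x)`
is separably closed in `E(x)`. -/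
theorem sc_adjoin (hx : AlgebraicIndependent E x)
    (h : ∀ α : E, IsSeparable F α → α ∈ Set.range (algebraMap F E)) :
    SC (adjoin F (Set.range x) : Set Ω) (adjoin E (Set.range x) : Set Ω) := by
  classical
  letI : Algebra ↥(adjoin F (Set.range x)) ↥(adjoin E (Set.range x)) :=
    (incl (F := F) (E := E) x).toAlgebra
  haveI : IsScalarTower ↥(adjoin F (Set.range x)) ↥(adjoin E (Set.range x)) Ω :=
    IsScalarTower.of_algebraMap_eq (fun _ => rfl)
  haveI : IsScalarTower F ↥(adjoin F (Set.range x)) ↥(adjoin E (Set.range x)) :=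
    IsScalarTower.of_algebraMap_eq (fun _ => rfl)
  haveI : IsScalarTower F E ↥(adjoin E (Set.range x)) := IsScalarTower.of_algebraMap_eq (fun a => by
    apply Subtype.ext
    exact IsScalarTower.algebraMap_apply F E Ω a)
  let j : ↥(adjoin F (Set.range x)) ⊗[F] E →ₐ[↥(adjoin F (Set.range x))] ↥(adjoin E (Set.range x)) :=
    Algebra.TensorProduct.productLeftAlgHom
      (Algebra.ofId ↥(adjoin F (Set.range x)) ↥(adjoin E (Set.range x)))
      (IsScalarTower.toAlgHom F E ↥(adjoin E (Set.range x)))
  have hj_tmul : ∀ (c : ↥(adjoin F (Set.range x))) (a : E),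
      ((j (c ⊗ₜ[F] a) : ↥(adjoin E (Set.range x))) : Ω) = (c : Ω) * algebraMap E Ω a := by
    intro c a
    simp only [j, Algebra.TensorProduct.lift_tmul, Algebra.ofId_apply,
      IsScalarTower.coe_toAlgHom']
    rfl
  -- injectivity
  have hj : Function.Injective j := by
    rw [injective_iff_map_eq_zero]
    intro z hz
    let b := Module.Free.chooseBasis F E
    let B := Algebra.TensorProduct.basis ↥(adjoin F (Set.range x)) b
    set c := B.repr z with hc
    have hzsum : z = ∑ i ∈ c.support, c i ⊗ₜ[F] b i := by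
      conv_lhs => rw [← B.linearCombination_repr z]
      rw [Finsupp.linearCombination_apply, Finsupp.sum]
      refine Finset.sum_congr rfl fun i _ => ?_
      rw [← Algebra.TensorProduct.basis_repr_symm_apply']
    have hli := linearIndependent_adjoin (F := F) x hx b b.linearIndependent
    have h0 : ∑ i ∈ c.support, c i • algebraMap E Ω (b i) = 0 := by
      have h1 : ((j z : ↥(adjoin E (Set.range x))) : Ω) = 0 := by rw [hz]; rfl
      rw [hzsum, map_sum, AddSubmonoidClass.coe_finset_sum] at h1
      rw [← h1]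
      refine Finset.sum_congr rfl fun i _ => ?_
      rw [hj_tmul, Algebra.smul_def]; rfl
    have h2 := linearIndependent_iff'.mp hli c.support c h0
    have hc0 : c = 0 := by
      refine Finsupp.ext fun i => ?_
      by_cases hi : i ∈ c.support
      · rw [h2 i hi]; rfl
      · simpa using hi
    have : B.repr z = 0 := hc0
    simpa using this
  -- fractions
  have hpoly : ∀ P : MvPolynomial ι E, ∃ a : ↥(adjoin F (Set.range x)) ⊗[F] E,
      ((j a : ↥(adjoin E (Set.range x))) : Ω) = MvPolynomial.aeval x P := by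
    intro P
    induction P using MvPolynomial.induction_on with
    | C a =>
      refine ⟨(1 : ↥(adjoin F (Set.range x))) ⊗ₜ[F] a, ?_⟩
      rw [hj_tmul, MvPolynomial.aeval_C]
      simp
    | add p q hp hq =>
      obtain ⟨a, ha⟩ := hp
      obtain ⟨a', ha'⟩ := hq
      refine ⟨a + a', ?_⟩
      rw [map_add, map_add, ← ha, ← ha']; rfl
    | mul_X p n hp =>
      obtain ⟨a, ha⟩ := hp
      refine ⟨a * ((⟨x n, subset_adjoin F _ ⟨n, rfl⟩⟩ : ↥(adjoin F (Set.range x))) ⊗ₜ[F] (1 : E)), ?_⟩
      rw [map_mul, map_mul, MvPolynomial.aeval_X, ← ha]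
      change ((j a : ↥(adjoin E (Set.range x))) : Ω) * ((j _ : ↥(adjoin E (Set.range x))) : Ω) = _
      rw [hj_tmul]
      simp
  have hfr : ∀ z : ↥(adjoin E (Set.range x)),
      ∃ a s : ↥(adjoin F (Set.range x)) ⊗[F] E, j s ≠ 0 ∧ z * j s = j a := by
    intro z
    obtain ⟨r, t, ht, hrt⟩ := exists_frac (F := E) x z.2
    obtain ⟨a, ha⟩ := hpoly r
    obtain ⟨s, hs⟩ := hpoly t
    refine ⟨a, s, ?_, ?_⟩
    · intro h0
      apply ht
      rw [← hs, h0]; rfl
    · apply Subtype.ext
      change (z : Ω) * ((j s : ↥(adjoin E (Set.range x))) : Ω) = _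
      rw [hs, ha, hrt]
  have hsep := sepClosed_of_fractions j hj hfr h
  have := (sc_range_iff (A := ↥(adjoin F (Set.range x))) (B := ↥(adjoin E (Set.range x)))
    (Ω := Ω)).mpr hsep
  rwa [range_algebraMap_intermediateField, range_algebraMap_intermediateField] at this

end T3

end Groth.Agent.Lib.Helper18.LinSec
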