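import Mathlib
import Groth.Agent.Lib.Helper18.LinSec.SC

/-!
# The Matsusaka–Zariski lemma (helper18)

If `F` is separably closed in the finitely generated extension `Ω`, `ξ, γ ∈ Ω` are algebraically
independent over `F` and `A ⊆ F` is infinite, then `F(ξ + aγ)` is separably closed in `Ω` for some
`a ∈ A`.
-/

set_option autoImplicit false
set_option linter.style.haveILetI false

namespace Groth.Agent.Lib.Helper18.LinSec
open IntermediateField

universe u

section MZ
variable {F Ω : Type u} [Field F] [Field Ω] [Algebra F Ω]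

open scoped IntermediateField.algebraAdjoinAdjoin in
open MvPolynomial in
theorem transcendental_adjoin_add_smul (ξ γ : Ω) (hind : AlgebraicIndependent F ![ξ, γ])
    {a a' : F} (haa : a ≠ a') : Transcendental ↥F⟮ξ + a • γ⟯ (ξ + a' • γ) := by
  classical
  let f : Fin 2 → MvPolynomial (Fin 2) F := ![X 0 + C a * X 1, X 0 + C a' * X 1]
  let Y : MvPolynomial (Fin 2) F := C (a' - a)⁻¹ * (X 1 - X 0)
  let y : Fin 2 → MvPolynomial (Fin 2) F := ![X 0 - C a * Y, Y]
  have hY : C (a' - a) * Y = X 1 - X 0 := by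
    simp only [Y]
    rw [← mul_assoc, ← C_mul, mul_inv_cancel₀ (sub_ne_zero.mpr haa.symm), C_1, one_mul]
  have hf : AlgebraicIndependent F f := by
    apply AlgebraicIndependent.of_aeval (x := y)
    have : (fun i => aeval y (f i)) = X := by
      funext i
      fin_cases i
      · simp [f, y]
      · simp only [f, y, Fin.mk_one, Matrix.cons_val_one, Matrix.cons_val_zero, map_add, map_mul,
          aeval_X, aeval_C, algebraMap_eq]
        rw [map_sub] at hY
        linear_combination hY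
    rw [this]
    exact MvPolynomial.algebraicIndependent_X _ _
  have h2 := hind.aeval_of_algebraicIndependent hf
  have h3 : (fun i => aeval ![ξ, γ] (f i)) = ![ξ + a • γ, ξ + a' • γ] := by
    funext i
    fin_cases i <;> simp [f, Algebra.smul_def]
  rw [h3] at h2
  have h4 := ((AlgebraicIndependent.iff_transcendental_adjoin_image (1 : Fin 2)).mp h2).2
  have himg : ![ξ + a • γ, ξ + a' • γ] '' {1}ᶜ = {ξ + a • γ} := by
    ext z
    simp only [Set.mem_image, Set.mem_compl_iff, Set.mem_singleton_iff]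
    constructor
    · rintro ⟨i, hi, rfl⟩
      fin_cases i
      · rfl
      · exact absurd rfl hi
    · rintro rfl
      exact ⟨0, by decide, rfl⟩
  rw [himg] at h4
  exact h4.extendScalars _

/-- **Matsusaka–Zariski.** -/
theorem exists_sc_adjoin_add_smul [Algebra.EssFiniteType F Ω]
    (hF : SC (Set.range (algebraMap F Ω)) Set.univ) (ξ γ : Ω)
    (hind : AlgebraicIndependent F ![ξ, γ]) (A : Set F) (hA : A.Infinite) :
    ∃ a ∈ A, SC (F⟮ξ + a • γ⟯ : Set Ω) Set.univ := by
  classical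
  by_contra hcon
  push_neg at hcon
  have hbad : ∀ a : A, ∃ (p : Polynomial Ω) (θ : Ω),
      (∀ i, p.coeff i ∈ (F⟮ξ + (a : F) • γ⟯ : Set Ω)) ∧ p.Separable ∧ p.eval θ = 0 ∧
        θ ∉ (F⟮ξ + (a : F) • γ⟯ : Set Ω) := by
    intro a
    have := hcon a a.2
    unfold SC at this
    push_neg at this
    obtain ⟨p, θ, -, hc, hs, he, hn⟩ := this
    exact ⟨p, θ, hc, hs, he, hn⟩
  choose p θ hpc hps hpe hθ using hbad
  set K₀ : IntermediateField F Ω := adjoin F {ξ, γ} with hK₀
  haveI : Algebra.EssFiniteType ↥K₀ Ω := Algebra.EssFiniteType.of_comp F ↥K₀ Ω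
  let M : IntermediateField ↥K₀ Ω := separableClosure ↥K₀ Ω
  haveI : FiniteDimensional ↥K₀ ↥M := finiteDimensional_of_isAlgebraic M
  haveI : Finite (IntermediateField ↥K₀ ↥M) :=
    Field.finite_intermediateField_of_exists_primitive_element ↥K₀ ↥M
      (Field.exists_primitive_element ↥K₀ ↥M)
  have hu : ∀ a : F, ξ + a • γ ∈ K₀ := fun a =>
    add_mem (subset_adjoin F _ (by simp)) (K₀.smul_mem (subset_adjoin F _ (by simp)))
  have hle : ∀ a : F, F⟮ξ + a • γ⟯ ≤ K₀ := fun a => by
    rw [adjoin_simple_le_iff]; exact hu a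
  have hθM : ∀ a : A, adjoin ↥K₀ {θ a} ≤ M := by
    intro a
    rw [adjoin_simple_le_iff, mem_separableClosure_iff, isSeparable_iff_exists_poly]
    refine ⟨p a, fun i => ?_, hps a, hpe a⟩
    rw [range_algebraMap_intermediateField]
    exact hle a (hpc a i)
  let N : A → IntermediateField ↥K₀ ↥M := fun a => IntermediateField.restrict (hθM a)
  haveI : Infinite A := hA.to_subtype
  obtain ⟨a, a', hne, hN⟩ := Finite.exists_ne_map_eq_of_infinite N
  have hN' : adjoin ↥K₀ {θ a} = adjoin ↥K₀ {θ a'} := by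
    have := congrArg IntermediateField.lift hN
    simpa [N] using this
  set F₁ : IntermediateField F Ω := F⟮ξ + (a : F) • γ⟯ with hF₁
  have hsepa : IsSeparable ↥F₁ (θ a) := by
    rw [isSeparable_iff_exists_poly]
    refine ⟨p a, fun i => ?_, hps a, hpe a⟩
    rw [range_algebraMap_intermediateField]; exact hpc a i
  haveI : Algebra.IsAlgebraic ↥F₁ ↥(adjoin ↥F₁ {θ a}) :=
    isAlgebraic_adjoin_simple hsepa.isIntegral
  haveI : IsScalarTower F ↥(adjoin ↥F₁ {θ a}) Ω := IsScalarTower.of_algebraMap_eq (fun _ => rfl)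
  have haa : (a : F) ≠ (a' : F) := fun h => hne (Subtype.ext h)
  have htr : Transcendental ↥F₁ (ξ + (a' : F) • γ) :=
    transcendental_adjoin_add_smul ξ γ hind haa
  have htr' : Transcendental ↥(adjoin ↥F₁ {θ a}) (ξ + (a' : F) • γ) := htr.extendScalars _
  have hxind : AlgebraicIndependent ↥(adjoin ↥F₁ {θ a}) (fun _ : Unit => ξ + (a' : F) • γ) := by
    rw [algebraicIndependent_unique_type_iff]; exact htr'
  have hFE : ∀ α : ↥(adjoin ↥F₁ {θ a}), IsSeparable F α →
      α ∈ Set.range (algebraMap F ↥(adjoin ↥F₁ {θ a})) := by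
    apply (sc_range_iff (A := F) (B := ↥(adjoin ↥F₁ {θ a})) (Ω := Ω)).mp
    exact hF.mono (Set.subset_univ _)
  have hT3 := sc_adjoin (F := F) (E := ↥(adjoin ↥F₁ {θ a}))
    (fun _ : Unit => ξ + (a' : F) • γ) hxind hFE
  rw [Set.range_const] at hT3
  set T := adjoin ↥(adjoin ↥F₁ {θ a}) {ξ + (a' : F) • γ} with hT
  have hFT : ∀ c : F, algebraMap F Ω c ∈ T := fun c => by
    rw [IsScalarTower.algebraMap_apply F ↥(adjoin ↥F₁ {θ a}) Ω]
    exact T.algebraMap_mem _
  have hua : ξ + (a : F) • γ ∈ T := by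
    have h1 : ξ + (a : F) • γ ∈ adjoin ↥F₁ {θ a} :=
      (adjoin ↥F₁ {θ a}).algebraMap_mem ⟨_, mem_adjoin_simple_self F _⟩
    exact T.algebraMap_mem ⟨_, h1⟩
  have hθa : θ a ∈ T := T.algebraMap_mem ⟨_, mem_adjoin_simple_self ↥F₁ (θ a)⟩
  have hua' : ξ + (a' : F) • γ ∈ T := mem_adjoin_simple_self _ _
  have hγ : γ ∈ T := by
    have : γ = algebraMap F Ω ((a' : F) - a)⁻¹ * ((ξ + (a' : F) • γ) - (ξ + (a : F) • γ)) := by
      rw [add_sub_add_left_eq_sub, ← sub_smul, Algebra.smul_def, ← mul_assoc, ← map_mul,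
        inv_mul_cancel₀ (sub_ne_zero.mpr haa.symm), map_one, one_mul]
    rw [this]
    exact mul_mem (hFT _) (sub_mem hua' hua)
  have hξ : ξ ∈ T := by
    have : ξ = (ξ + (a : F) • γ) - algebraMap F Ω a * γ := by
      rw [Algebra.smul_def]; ring
    rw [this]
    exact sub_mem hua (mul_mem (hFT _) hγ)
  have hmem : θ a' ∈ T := by
    have h1 : θ a' ∈ adjoin ↥K₀ {θ a} := by rw [hN']; exact mem_adjoin_simple_self _ _
    have h2 : (adjoin ↥K₀ {θ a}).restrictScalars F ≤ T.restrictScalars F := by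
      rw [hK₀, adjoin_adjoin_left, adjoin_le_iff]
      rintro z (hz | hz)
      · rcases hz with rfl | hz
        · exact hξ
        · rw [Set.mem_singleton_iff] at hz; rw [hz]; exact hγ
      · rw [Set.mem_singleton_iff] at hz; rw [hz]; exact hθa
    exact h2 h1
  exact hθ a' (hT3 (p a') (θ a') hmem (hpc a') (hps a') (hpe a'))

end MZ

end Groth.Agent.Lib.Helper18.LinSec
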