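import Mathlib
import Groth.Agent.Lib.Helper18.LinSec.MZ

/-!
# Automorphisms `x_s ↦ x_s + c_s ℓ^r` of `K(x)` and the generic linear section (helper18)
-/

set_option autoImplicit false
set_option linter.style.haveILetI false

namespace Groth.Agent.Lib.Helper18.LinSec
open IntermediateField MvPolynomial

universe u

theorem SC.of_image {Ω : Type*} [Field Ω] (f : Ω →+* Ω) {L : Set Ω}
    (h : SC (f '' L) Set.univ) : SC L Set.univ := by
  intro p α _ hc hs he
  have h1 := h (p.map f) (f α) trivial
    (fun i => by rw [Polynomial.coeff_map]; exact ⟨_, hc i, rfl⟩) hs.map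
    (by rw [Polynomial.eval_map, Polynomial.eval₂_at_apply, he, map_zero])
  obtain ⟨β, hβ, hβα⟩ := h1
  rwa [f.injective hβα] at hβ

section Main
variable {k K : Type u} [Field k] [Field K] [Algebra k K] {σ : Type} [Fintype σ] [DecidableEq σ]

local notation "Rx" => MvPolynomial σ K
local notation "Ωx" => FractionRing (MvPolynomial σ K)

theorem algebraicIndependent_x :
    AlgebraicIndependent K (fun i : σ => algebraMap Rx Ωx (X i)) :=
  (MvPolynomial.algebraicIndependent_X σ K).map' (f := IsScalarTower.toAlgHom K Rx Ωx)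
    (IsFractionRing.injective Rx Ωx)

theorem aeval_x (P : Rx) :
    aeval (fun i : σ => algebraMap Rx Ωx (X i)) P = algebraMap Rx Ωx P :=
  (DFunLike.congr_fun (aeval_unique (IsScalarTower.toAlgHom K Rx Ωx)) P).symm

theorem adjoin_x_eq_top :
    adjoin K (Set.range (fun i : σ => algebraMap Rx Ωx (X i))) = ⊤ := by
  rw [eq_top_iff]
  intro z _
  obtain ⟨P, Q, -, rfl⟩ := IsFractionRing.div_surjective (A := Rx) z
  rw [mem_adjoin_range_iff]
  exact ⟨P, Q, by rw [aeval_x, aeval_x]⟩

variable (c : σ → k) (i j : σ) (r : ℕ)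

/-- The linear form `c_j x_i - c_i x_j`. -/
noncomputable def ell : Rx :=
  C (algebraMap k K (c j)) * X i - C (algebraMap k K (c i)) * X j

/-- The substitution `x_s ↦ x_s + ε c_s ℓ^r`. -/
noncomputable def tauHom (ε : K) : Rx →ₐ[K] Rx :=
  aeval (fun s => X s + C (ε * algebraMap k K (c s)) * ell (K := K) c i j ^ r)

theorem tauHom_X (ε : K) (s : σ) :
    tauHom c i j r ε (X s) = X s + C (ε * algebraMap k K (c s)) * ell (K := K) c i j ^ r := by
  simp [tauHom]

theorem tauHom_ell (ε : K) : tauHom c i j r ε (ell (K := K) c i j) = ell (K := K) c i j := by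
  have h : ∀ a : K, tauHom c i j r ε (C a) = C a := fun a => by simp [tauHom]
  conv_lhs => rw [ell, map_sub, map_mul, map_mul, h, h, tauHom_X, tauHom_X]
  rw [C_mul, C_mul]
  conv_rhs => rw [ell]
  ring

theorem tauHom_comp (ε ε' : K) (h : ε + ε' = 0) :
    (tauHom c i j r ε).comp (tauHom c i j r ε') = AlgHom.id K Rx := by
  apply MvPolynomial.algHom_ext
  intro s
  have hC : ∀ a : K, tauHom c i j r ε (C a) = C a := fun a => by simp [tauHom]
  rw [AlgHom.comp_apply, AlgHom.id_apply, tauHom_X, map_add, map_mul, map_pow, tauHom_ell, hC,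
    tauHom_X, add_assoc, ← add_mul, ← C_add, ← add_mul, h, zero_mul, C_0, zero_mul, add_zero]

/-- The automorphism `x_s ↦ x_s + c_s ℓ^r` of `K[x]`. -/
noncomputable def tauEquiv : Rx ≃ₐ[K] Rx :=
  AlgEquiv.ofAlgHom (tauHom c i j r 1) (tauHom c i j r (-1))
    (tauHom_comp c i j r _ _ (by ring)) (tauHom_comp c i j r _ _ (by ring))

/-- The automorphism `x_s ↦ x_s + c_s ℓ^r` of `K(x)`. -/
noncomputable def tauField : Ωx ≃ₐ[K] Ωx :=
  IsFractionRing.algEquivOfAlgEquiv (tauEquiv c i j r)

theorem tauField_algebraMap (P : Rx) :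
    tauField c i j r (algebraMap Rx Ωx P) = algebraMap Rx Ωx (tauHom c i j r 1 P) :=
  IsFractionRing.algEquivOfAlgEquiv_algebraMap _ _

theorem ell_pow_injective (hij : i ≠ j) (hcj : c j ≠ 0) :
    Function.Injective (fun r : ℕ => algebraMap Rx Ωx (ell (K := K) c i j) ^ r) := by
  have hcj' : algebraMap k K (c j) ≠ 0 := fun h =>
    hcj ((algebraMap k K).injective (h.trans (map_zero _).symm))
  have h1 : ¬ IsUnit (ell (K := K) c i j) := by
    intro hu
    have := hu.map (aeval (fun _ : σ => (0 : K)) : Rx →ₐ[K] K)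
    simp [ell] at this
  have h2 : ell (K := K) c i j ≠ 0 := by
    intro h0
    have := congrArg (aeval (Pi.single i (1 : K)) : Rx →ₐ[K] K) h0
    simp only [ell, map_sub, map_mul, aeval_C, aeval_X, Pi.single_eq_same, mul_one, map_zero,
      Algebra.algebraMap_self, RingHom.id_apply, Pi.single_eq_of_ne hij.symm, mul_zero,
      sub_zero] at this
    exact hcj' this
  intro r r' h
  simp only [← map_pow] at h
  exact pow_injective_of_not_isUnit h1 h2 (IsFractionRing.injective Rx Ωx h)

end Main

end Groth.Agent.Lib.Helper18.LinSec
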