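import Mathlib
import Groth.Agent.Lib.Helper18.LinSec.Auto

/-!
# The generic linear section: `k(x, ξ)` is separably closed in `K(x)` (helper18)
-/

set_option autoImplicit false
set_option linter.style.haveILetI false

namespace Groth.Agent.Lib.Helper18.LinSec
open IntermediateField MvPolynomial

universe u

section Final
variable {k K : Type u} [Field k] [Field K] [Algebra k K] {σ : Type} [Fintype σ] [DecidableEq σ]

local notation "Rx" => MvPolynomial σ K
local notation "Ωx" => FractionRing (MvPolynomial σ K)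

theorem exists_ne_of_hind (g : σ → K) (c : σ → k)
    (hind : AlgebraicIndependent k
      (Sum.elim (fun i : σ => algebraMap Rx Ωx (X i))
        ![∑ i, algebraMap K Ωx (g i) * algebraMap Rx Ωx (X i),
          algebraMap K Ωx (∑ i, c i • g i)])) :
    ∃ i j : σ, i ≠ j ∧ c j ≠ 0 := by
  classical
  have hγ : algebraMap K Ωx (∑ i, c i • g i) ≠ 0 := hind.ne_zero (Sum.inr 1)
  have hj : ∃ j, c j ≠ 0 := by
    by_contra hcon
    push_neg at hcon
    apply hγ
    rw [Finset.sum_eq_zero (fun i _ => by rw [hcon i, zero_smul]), map_zero]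
  obtain ⟨j, hcj⟩ := hj
  by_contra hcon
  push_neg at hcon
  have hall : ∀ i : σ, i = j := fun i => by
    by_contra hne
    exact hcj (hcon i j hne)
  set y := (Sum.elim (fun i : σ => algebraMap Rx Ωx (X i))
        ![∑ i, algebraMap K Ωx (g i) * algebraMap Rx Ωx (X i),
          algebraMap K Ωx (∑ i, c i • g i)]) with hy
  let s : Set (σ ⊕ Fin 2) := {Sum.inl j, Sum.inr 1}
  have hns : (Sum.inr 0 : σ ⊕ Fin 2) ∉ s := by simp [s]
  have htr := hind.transcendental_adjoin hns
  have hξ : (∑ i, algebraMap K Ωx (g i) * algebraMap Rx Ωx (X i)) =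
      algebraMap k Ωx (c j)⁻¹ * algebraMap K Ωx (∑ i, c i • g i) * algebraMap Rx Ωx (X j) := by
    rw [Fintype.sum_eq_single j (fun i hi => absurd (hall i) hi),
      Fintype.sum_eq_single j (fun i hi => absurd (hall i) hi), Algebra.smul_def, map_mul,
      ← IsScalarTower.algebraMap_apply k K Ωx, ← mul_assoc, ← map_mul,
      inv_mul_cancel₀ hcj, map_one, one_mul]
  have hmem : y (Sum.inr 0) ∈ Algebra.adjoin k (y '' s) := by
    show (∑ i, algebraMap K Ωx (g i) * algebraMap Rx Ωx (X i)) ∈ _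
    rw [hξ]
    refine Subalgebra.mul_mem _ (Subalgebra.mul_mem _ (Subalgebra.algebraMap_mem _ _) ?_) ?_
    · exact Algebra.subset_adjoin ⟨Sum.inr 1, by simp [s], rfl⟩
    · exact Algebra.subset_adjoin ⟨Sum.inl j, by simp [s], rfl⟩
  exact htr (isAlgebraic_algebraMap (⟨_, hmem⟩ : Algebra.adjoin k (y '' s)))

open scoped IntermediateField.algebraAdjoinAdjoin in
theorem sc_linear_section [Algebra.EssFiniteType k K]
    (hkK : ∀ α : K, IsSeparable k α → α ∈ Set.range (algebraMap k K))
    (g : σ → K) (c : σ → k)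
    (hind : AlgebraicIndependent k
      (Sum.elim (fun i : σ => algebraMap Rx Ωx (X i))
        ![∑ i, algebraMap K Ωx (g i) * algebraMap Rx Ωx (X i),
          algebraMap K Ωx (∑ i, c i • g i)])) :
    SC (adjoin k (Set.range (fun i : σ => algebraMap Rx Ωx (X i)) ∪
      {∑ i, algebraMap K Ωx (g i) * algebraMap Rx Ωx (X i)}) : Set Ωx) Set.univ := by
  classical
  obtain ⟨i, j, hij, hcj⟩ := exists_ne_of_hind g c hind
  have hT3 := sc_adjoin (F := k) (E := K) (fun i : σ => algebraMap Rx Ωx (X i))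
    algebraicIndependent_x hkK
  rw [adjoin_x_eq_top, IntermediateField.coe_top] at hT3
  set x : σ → Ωx := fun i => algebraMap Rx Ωx (X i) with hx
  set ξ : Ωx := ∑ i, algebraMap K Ωx (g i) * x i with hξ
  set γ' : Ωx := algebraMap K Ωx (∑ i, c i • g i) with hγ'
  set ℓx : Ωx := algebraMap Rx Ωx (ell (K := K) c i j) with hℓ
  haveI : Algebra.EssFiniteType k Rx := Algebra.EssFiniteType.comp k K Rx
  haveI : Algebra.EssFiniteType k Ωx := Algebra.EssFiniteType.comp k Rx Ωx
  haveI : Algebra.EssFiniteType ↥(adjoin k (Set.range x)) Ωx :=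
    Algebra.EssFiniteType.of_comp k ↥(adjoin k (Set.range x)) Ωx
  have hF : SC (Set.range (algebraMap ↥(adjoin k (Set.range x)) Ωx)) Set.univ := by
    rw [range_algebraMap_intermediateField]; exact hT3
  have hind' : AlgebraicIndependent ↥(adjoin k (Set.range x)) ![ξ, γ'] := by
    have h1 : AlgebraicIndependent k (Sum.elim ![ξ, γ'] x) := by
      have := hind.comp (Equiv.sumComm (Fin 2) σ) (Equiv.injective _)
      convert this using 1
      funext z
      rcases z with z | z <;> rfl
    have h2 := (AlgebraicIndependent.sumElim_iff.mp h1).2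
    exact h2.extendScalars ↥(adjoin k (Set.range x))
  have hC : ∀ a : k, algebraMap Rx Ωx (C (algebraMap k K a)) = algebraMap k Ωx a := fun a => by
    rw [IsScalarTower.algebraMap_apply k K Ωx, IsScalarTower.algebraMap_apply K Rx Ωx]; rfl
  have hℓx : ℓx = algebraMap k Ωx (c j) * x i - algebraMap k Ωx (c i) * x j := by
    rw [hℓ, ell, map_sub, map_mul, map_mul, hC, hC]
  have hℓmem : ∀ r : ℕ, ℓx ^ r ∈ adjoin k (Set.range x) := fun r => by
    rw [hℓx]
    have hxm : ∀ s, x s ∈ adjoin k (Set.range x) := fun s => subset_adjoin k _ ⟨s, rfl⟩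
    exact pow_mem (sub_mem (mul_mem (IntermediateField.algebraMap_mem _ _) (hxm i))
      (mul_mem (IntermediateField.algebraMap_mem _ _) (hxm j))) r
  let A : Set ↥(adjoin k (Set.range x)) := Set.range (fun r : ℕ => ⟨ℓx ^ r, hℓmem r⟩)
  have hA : A.Infinite := Set.infinite_range_of_injective (fun r r' h =>
    ell_pow_injective (K := K) c i j hij hcj (congrArg Subtype.val h))
  obtain ⟨a, ⟨r, rfl⟩, hSC⟩ := exists_sc_adjoin_add_smul hF ξ γ' hind' A hA
  have hsmul : (⟨ℓx ^ r, hℓmem r⟩ : ↥(adjoin k (Set.range x))) • γ' = ℓx ^ r * γ' := rfl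
  simp only [hsmul] at hSC
  have hset : ((adjoin ↥(adjoin k (Set.range x)) {ξ + ℓx ^ r * γ'} :
      IntermediateField ↥(adjoin k (Set.range x)) Ωx) : Set Ωx) =
      (adjoin k (Set.range x ∪ {ξ + ℓx ^ r * γ'}) : Set Ωx) := by
    have := adjoin_adjoin_left k (Set.range x) ({ξ + ℓx ^ r * γ'} : Set Ωx)
    exact congrArg (fun X : IntermediateField k Ωx => (X : Set Ωx)) this
  -- the automorphism
  let f : Ωx ≃ₐ[k] Ωx := (tauField c i j r).restrictScalars k
  have hfx : ∀ s, f (x s) = x s + algebraMap k Ωx (c s) * ℓx ^ r := by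
    intro s
    show tauField c i j r (algebraMap Rx Ωx (X s)) = _
    rw [tauField_algebraMap, tauHom_X, map_add, map_mul, map_pow, one_mul, hC]
  have hfℓ : f ℓx = ℓx := by
    show tauField c i j r (algebraMap Rx Ωx (ell (K := K) c i j)) = _
    rw [tauField_algebraMap, tauHom_ell]
  have hfK : ∀ b : K, f (algebraMap K Ωx b) = algebraMap K Ωx b := fun b =>
    (tauField c i j r).commutes b
  have hfξ : f ξ = ξ + ℓx ^ r * γ' := by
    rw [hξ, map_sum]
    simp only [map_mul, hfK, hfx]
    rw [hγ', map_sum, Finset.mul_sum, ← Finset.sum_add_distrib]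
    refine Finset.sum_congr rfl fun s _ => ?_
    rw [Algebra.smul_def, map_mul, ← IsScalarTower.algebraMap_apply k K Ωx]; ring
  have hmap : (adjoin k (Set.range x ∪ {ξ})).map f.toAlgHom =
      adjoin k (Set.range x ∪ {ξ + ℓx ^ r * γ'}) := by
    rw [adjoin_map]
    apply le_antisymm
    · rw [adjoin_le_iff]
      rintro _ ⟨z, (⟨s, rfl⟩ | hz), rfl⟩
      · show f (x s) ∈ _
        rw [hfx]
        refine add_mem (subset_adjoin k _ (Or.inl ⟨s, rfl⟩)) (mul_mem (IntermediateField.algebraMap_mem _ _) ?_)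
        exact adjoin.mono k _ _ Set.subset_union_left (hℓmem r)
      · rw [Set.mem_singleton_iff] at hz
        rw [hz]
        show f ξ ∈ _
        rw [hfξ]
        exact subset_adjoin k _ (Or.inr rfl)
    · rw [adjoin_le_iff]
      have hfxmem : ∀ s, f (x s) ∈ adjoin k (⇑f.toAlgHom '' (Set.range x ∪ {ξ})) := fun s =>
        subset_adjoin k _ ⟨x s, Or.inl ⟨s, rfl⟩, rfl⟩
      have hℓmem' : ℓx ∈ adjoin k (⇑f.toAlgHom '' (Set.range x ∪ {ξ})) := by
        have : ℓx = algebraMap k Ωx (c j) * f (x i) - algebraMap k Ωx (c i) * f (x j) := by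
          conv_lhs => rw [← hfℓ, hℓx]
          rw [map_sub, map_mul, map_mul, f.commutes, f.commutes]
        rw [this]
        exact sub_mem (mul_mem (IntermediateField.algebraMap_mem _ _) (hfxmem i))
          (mul_mem (IntermediateField.algebraMap_mem _ _) (hfxmem j))
      rintro z (⟨s, rfl⟩ | hz)
      · have : x s = f (x s) - algebraMap k Ωx (c s) * ℓx ^ r := by rw [hfx]; ring
        rw [this]
        exact sub_mem (hfxmem s) (mul_mem (IntermediateField.algebraMap_mem _ _) (pow_mem hℓmem' r))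
      · rw [Set.mem_singleton_iff] at hz
        rw [hz, ← hfξ]
        exact subset_adjoin k _ ⟨ξ, Or.inr rfl, rfl⟩
  have h7 : SC (⇑(f : Ωx →+* Ωx) '' (adjoin k (Set.range x ∪ {ξ}) : Set Ωx)) Set.univ := by
    have : (⇑(f : Ωx →+* Ωx) '' (adjoin k (Set.range x ∪ {ξ}) : Set Ωx)) =
        (adjoin k (Set.range x ∪ {ξ + ℓx ^ r * γ'}) : Set Ωx) := by
      rw [← hmap]; rfl
    rw [this, ← hset]
    exact hSC
  exact SC.of_image (f : Ωx →+* Ωx) h7

end Final

end Groth.Agent.Lib.Helper18.LinSec
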