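import Mathlib
import Groth.Agent.Lib.lead.FieldDim
import Groth.Agent.Lib.Helper20.SegTrdeg

/-!
# Two functions cutting out a component of codimension two are algebraically independent (helper18)
-/

set_option autoImplicit false
set_option linter.style.haveILetI false

namespace Groth.Agent.Lib.Helper18.LinSec

universe u

open Cardinal in
theorem algebraicIndependent_of_minimalPrimes {k A : Type u} [Field k] [CommRing A] [IsDomain A]
    [Algebra k A] [Algebra.FiniteType k A] (g0 g1 : A) (p : Ideal A)
    (hp : p ∈ (Ideal.span {g0, g1}).minimalPrimes)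
    (hdim : ringKrullDim (A ⧸ p) + 2 = ringKrullDim A) : AlgebraicIndependent k ![g0, g1] := by
  classical
  haveI : p.IsPrime := hp.1.1
  haveI : IsNoetherianRing A := Algebra.FiniteType.isNoetherianRing k A
  haveI : Algebra.FiniteType k (A ⧸ p) :=
    Algebra.FiniteType.of_surjective (Ideal.Quotient.mkₐ k p) Ideal.Quotient.mk_surjective
  -- the height of `p` is two
  have hht : p.height = 2 := by
    obtain ⟨a, ha1, ha2⟩ := Groth.Agent.Lib.Helper20.SegTrdeg.exists_dim_eq_trdeg k (A ⧸ p)
    obtain ⟨b, hb1, hb2⟩ := Groth.Agent.Lib.Helper20.SegTrdeg.exists_dim_eq_trdeg k A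
    have h := Groth.Agent.Lib.lead.FieldDim.height_add_trdeg_eq k A p
    rw [ha2, hb2] at h
    rw [ha1, hb1] at hdim
    have hab : a + 2 = b := by exact_mod_cast hdim
    obtain ⟨h0, hh0⟩ := ENat.ne_top_iff_exists.mp
      (Ideal.height_ne_top (I := p) (Ideal.IsPrime.ne_top inferInstance))
    rw [← hh0] at h ⊢
    have h3 : ((h0 + a : ℕ) : Cardinal.{u}) = ((b : ℕ) : Cardinal.{u}) := by
      simpa using h
    have h4 : h0 + a = b := by exact_mod_cast h3
    have : h0 = 2 := by omega
    rw [this]; rfl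
  by_contra hnot
  let B := Algebra.adjoin k ({g0, g1} : Set A)
  haveI : Algebra.FiniteType k B := Algebra.FiniteType.adjoin_of_finite (by simp)
  have hg0B : g0 ∈ B := Algebra.subset_adjoin (by simp)
  have hg1B : g1 ∈ B := Algebra.subset_adjoin (by simp)
  let x : Fin 2 → B := ![⟨g0, hg0B⟩, ⟨g1, hg1B⟩]
  have hxtop : Algebra.adjoin k (Set.range x) = ⊤ := by
    rw [eq_top_iff]
    rintro ⟨b, hb⟩ -
    induction hb using Algebra.adjoin_induction with
    | mem z hz =>
      apply Algebra.subset_adjoin
      rcases hz with rfl | hz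
      · exact ⟨0, rfl⟩
      · rw [Set.mem_singleton_iff] at hz; subst hz; exact ⟨1, rfl⟩
    | algebraMap r => exact Subalgebra.algebraMap_mem _ r
    | add y z hy hz h1 h2 => exact Subalgebra.add_mem _ h1 h2
    | mul y z hy hz h1 h2 => exact Subalgebra.mul_mem _ h1 h2
  haveI : Algebra.IsAlgebraic (Algebra.adjoin k (Set.range x)) B := by
    refine ⟨fun b => ?_⟩
    have hb : b ∈ Algebra.adjoin k (Set.range x) := by rw [hxtop]; trivial
    exact isAlgebraic_algebraMap (⟨b, hb⟩ : Algebra.adjoin k (Set.range x))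
  have htr : Algebra.trdeg k B < 2 := by
    by_contra hle
    push_neg at hle
    have hb := Algebra.IsAlgebraic.isTranscendenceBasis_of_lift_le_trdeg_of_finite k x
      (by simpa using hle)
    apply hnot
    have := hb.1.map' (f := B.val) Subtype.val_injective
    convert this using 1
    funext i
    fin_cases i <;> rfl
  obtain ⟨d, hd1, hd2⟩ := Groth.Agent.Lib.Helper20.SegTrdeg.exists_dim_eq_trdeg k B
  have hd : d ≤ 1 := by
    rw [hd2] at htr
    have : d < 2 := by exact_mod_cast htr
    omega
  let q : Ideal B := p.comap (algebraMap B A)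
  haveI : q.IsPrime := Ideal.comap_isPrime _ _
  have hq_ht : q.height ≤ 1 := by
    have h1 := Ideal.height_le_ringKrullDim_of_ne_top (I := q) (Ideal.IsPrime.ne_top inferInstance)
    rw [hd1] at h1
    have h2 : (q.height : WithBot ℕ∞) ≤ ((1 : ℕ∞) : WithBot ℕ∞) := by
      refine h1.trans ?_
      exact_mod_cast hd
    exact_mod_cast h2
  haveI : IsNoetherianRing B := Algebra.FiniteType.isNoetherianRing k B
  obtain ⟨s, hs_min, hs_card⟩ := Ideal.exists_finset_card_eq_height_of_isNoetherianRing q
  have hgp : ∀ z ∈ ({g0, g1} : Set A), z ∈ p := fun z hz => hp.1.2 (Ideal.subset_span hz)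
  have hpmin : p ∈ (Ideal.span ((algebraMap B A) '' (s : Set B))).minimalPrimes := by
    refine ⟨⟨inferInstance, ?_⟩, ?_⟩
    · rw [Ideal.span_le]
      rintro _ ⟨b, hb, rfl⟩
      exact (hs_min.1.2 (Ideal.subset_span hb) : b ∈ q)
    · intro P' hP' hP'p
      haveI := hP'.1
      have hq' : q ≤ P'.comap (algebraMap B A) := by
        refine hs_min.2 ⟨Ideal.comap_isPrime _ _, ?_⟩ (Ideal.comap_mono hP'p)
        rw [Ideal.span_le]
        intro b hb
        exact hP'.2 (Ideal.subset_span ⟨b, hb, rfl⟩)
      have hg0 : g0 ∈ P' := hq' (show (⟨g0, hg0B⟩ : B) ∈ q from hgp g0 (by simp))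
      have hg1 : g1 ∈ P' := hq' (show (⟨g1, hg1B⟩ : B) ∈ q from hgp g1 (by simp))
      refine hp.2 ⟨hP'.1, ?_⟩ hP'p
      rw [Ideal.span_le]
      rintro z (rfl | hz)
      · exact hg0
      · rw [Set.mem_singleton_iff] at hz; subst hz; exact hg1
  have hfin : ((algebraMap B A) '' (s : Set B)).Finite := s.finite_toSet.image _
  have h5 := Ideal.height_le_card_of_mem_minimalPrimes_span hfin hpmin
  have h6 : ((algebraMap B A) '' (s : Set B)).ncard ≤ s.card := by
    have := Set.ncard_image_le (f := algebraMap B A) s.finite_toSet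
    simpa using this
  have h7 : p.height ≤ 1 := by
    refine h5.trans ?_
    have : ((s.card : ℕ) : ℕ∞) ≤ 1 := by rw [hs_card]; exact hq_ht
    exact (by exact_mod_cast h6 : ((((algebraMap B A) '' (s : Set B)).ncard : ℕ) : ℕ∞) ≤ s.card).trans this
  rw [hht] at h7
  exact absurd h7 (by decide)

end Groth.Agent.Lib.Helper18.LinSec
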