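import Mathlib
import Groth.Agent.Lib.Helper18.LinSec.Auto

/-!
# Algebraic independence of `x, Σ g_i x_i, g_{i1}` when `g_{i0}, g_{i1}` are independent (helper18)
-/

set_option autoImplicit false
set_option linter.style.haveILetI false

namespace Groth.Agent.Lib.Helper18.LinSec
open IntermediateField MvPolynomial

universe u

theorem isAlgebraic_iff_exists_poly {A Ω : Type*} [Field A] [Field Ω] [Algebra A Ω] (α : Ω) :
    IsAlgebraic A α ↔ ∃ p : Polynomial Ω, p ≠ 0 ∧
      (∀ i, p.coeff i ∈ Set.range (algebraMap A Ω)) ∧ p.eval α = 0 := by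
  constructor
  · rintro ⟨q, hq0, hq⟩
    refine ⟨q.map (algebraMap A Ω), ?_, fun i => ?_, ?_⟩
    · rwa [Ne, Polynomial.map_eq_zero]
    · rw [Polynomial.coeff_map]; exact ⟨_, rfl⟩
    · rw [Polynomial.eval_map, ← Polynomial.aeval_def, hq]
  · rintro ⟨p, hp0, hc, he⟩
    have hp : p ∈ Polynomial.lifts (algebraMap A Ω) := by
      rw [Polynomial.lifts_iff_coeff_lifts]
      intro n; exact hc n
    obtain ⟨q, rfl⟩ := (Polynomial.mem_lifts p).mp hp
    refine ⟨q, ?_, ?_⟩
    · rintro rfl; exact hp0 (Polynomial.map_zero _)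
    · rw [Polynomial.aeval_def, ← Polynomial.eval_map]; exact he

theorem isAlgebraic_map_of_map_le {k Ω : Type*} [Field k] [Field Ω] [Algebra k Ω]
    (L : IntermediateField k Ω) (ψ : Ω ≃ₐ[k] Ω) (hψ : ∀ z ∈ L, ψ z ∈ L) {z : Ω}
    (hz : IsAlgebraic ↥L z) : IsAlgebraic ↥L (ψ z) := by
  rw [isAlgebraic_iff_exists_poly] at hz ⊢
  obtain ⟨p, hp0, hc, he⟩ := hz
  refine ⟨p.map (ψ : Ω →+* Ω), ?_, fun i => ?_, ?_⟩
  · rwa [Ne, Polynomial.map_eq_zero]
  · rw [Polynomial.coeff_map]
    obtain ⟨b, hb⟩ := hc i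
    rw [← hb]
    exact ⟨⟨ψ b, hψ _ b.2⟩, rfl⟩
  · rw [Polynomial.eval_map]
    have := Polynomial.eval₂_at_apply (p := p) (ψ : Ω →+* Ω) z
    rw [show ((ψ : Ω →+* Ω) z) = ψ z from rfl] at this
    rw [this, he, map_zero]

section IndepSec
variable {k K : Type u} [Field k] [Field K] [Algebra k K] {σ : Type} [Fintype σ] [DecidableEq σ]

local notation "Rx" => MvPolynomial σ K
local notation "Ωx" => FractionRing (MvPolynomial σ K)

theorem algebraMap_C (a : k) :
    algebraMap Rx Ωx (C (algebraMap k K a)) = algebraMap k Ωx a := by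
  rw [IsScalarTower.algebraMap_apply k K Ωx, IsScalarTower.algebraMap_apply K Rx Ωx]; rfl

theorem tauField_x (c : σ → k) (i j : σ) (r : ℕ) (s : σ) :
    tauField c i j r (algebraMap Rx Ωx (X s)) = algebraMap Rx Ωx (X s) +
      algebraMap k Ωx (c s) * algebraMap Rx Ωx (ell (K := K) c i j) ^ r := by
  rw [tauField_algebraMap, tauHom_X, map_add, map_mul, map_pow, one_mul, algebraMap_C]

theorem tauField_xi (c : σ → k) (i j : σ) (r : ℕ) (g : σ → K) :
    tauField c i j r (∑ s, algebraMap K Ωx (g s) * algebraMap Rx Ωx (X s)) =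
      (∑ s, algebraMap K Ωx (g s) * algebraMap Rx Ωx (X s)) +
        algebraMap Rx Ωx (ell (K := K) c i j) ^ r * algebraMap K Ωx (∑ s, c s • g s) := by
  rw [map_sum]
  simp only [map_mul, AlgEquiv.commutes, tauField_x]
  rw [map_sum, Finset.mul_sum, ← Finset.sum_add_distrib]
  refine Finset.sum_congr rfl fun s _ => ?_
  rw [Algebra.smul_def, map_mul, ← IsScalarTower.algebraMap_apply k K Ωx]; ring

open scoped IntermediateField.algebraAdjoinAdjoin in
theorem algebraicIndependent_linear_section (g : σ → K) (i0 i1 : σ) (h01 : i0 ≠ i1)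
    (hg : AlgebraicIndependent k ![g i0, g i1]) :
    AlgebraicIndependent k (Sum.elim (fun i : σ => algebraMap Rx Ωx (X i))
      ![∑ i, algebraMap K Ωx (g i) * algebraMap Rx Ωx (X i), algebraMap K Ωx (g i1)]) := by
  classical
  have h1 : AlgebraicIndependent k (Sum.elim (fun i : σ => algebraMap Rx Ωx (X i))
      (algebraMap K Ωx ∘ ![g i0, g i1])) := hg.sumElim_comp algebraicIndependent_x
  -- the automorphism `x_{i0} ↦ x_{i0} + x_{i1}`
  let c : σ → k := Pi.single i0 1
  have hc0 : c i0 = 1 := Pi.single_eq_same _ _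
  have hc1 : c i1 = 0 := Pi.single_eq_of_ne h01.symm _
  let ψ : Ωx ≃ₐ[k] Ωx := (tauField c i1 i0 1).restrictScalars k
  have hℓ : algebraMap Rx Ωx (ell (K := K) c i1 i0) = algebraMap Rx Ωx (X i1) := by
    rw [ell, hc0, hc1, map_one, map_zero, C_1, C_0, one_mul, zero_mul, sub_zero]
  have hψx : ∀ s, ψ (algebraMap Rx Ωx (X s)) = algebraMap Rx Ωx (X s) +
      algebraMap k Ωx (c s) * algebraMap Rx Ωx (X i1) := by
    intro s
    show tauField c i1 i0 1 (algebraMap Rx Ωx (X s)) = _
    rw [tauField_x, hℓ, pow_one]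
  have hsum : ∑ s, c s • g s = g i0 := by
    rw [Fintype.sum_eq_single i0 (fun s hs => by
      rw [show c s = 0 from Pi.single_eq_of_ne hs _, zero_smul]), hc0, one_smul]
  have hψξ : ψ (∑ s, algebraMap K Ωx (g s) * algebraMap Rx Ωx (X s)) =
      (∑ s, algebraMap K Ωx (g s) * algebraMap Rx Ωx (X s)) +
        algebraMap Rx Ωx (X i1) * algebraMap K Ωx (g i0) := by
    show tauField c i1 i0 1 _ = _
    rw [tauField_xi, hℓ, pow_one, hsum]
  have hψK : ∀ b : K, ψ (algebraMap K Ωx b) = algebraMap K Ωx b := fun b =>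
    (tauField c i1 i0 1).commutes b
  set x : σ → Ωx := fun i => algebraMap Rx Ωx (X i) with hx
  set ξ : Ωx := ∑ i, algebraMap K Ωx (g i) * x i with hξ
  set γ : Ωx := algebraMap K Ωx (g i1) with hγ
  set β : Ωx := algebraMap K Ωx (g i0) with hβ
  have himg' : (Sum.elim x (algebraMap K Ωx ∘ ![g i0, g i1])) '' {Sum.inr 0}ᶜ =
      Set.range x ∪ {γ} := by
    ext z
    constructor
    · rintro ⟨j, hj, rfl⟩
      rcases j with s | j
      · exact Or.inl ⟨s, rfl⟩
      · fin_cases j
        · exact absurd rfl hj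
        · exact Or.inr rfl
    · rintro (⟨s, rfl⟩ | hz)
      · exact ⟨Sum.inl s, by simp, rfl⟩
      · rw [Set.mem_singleton_iff] at hz
        rw [hz]
        exact ⟨Sum.inr 1, by simp, rfl⟩
  have himg : (Sum.elim x ![ξ, γ]) '' {Sum.inr 0}ᶜ = Set.range x ∪ {γ} := by
    ext z
    constructor
    · rintro ⟨j, hj, rfl⟩
      rcases j with s | j
      · exact Or.inl ⟨s, rfl⟩
      · fin_cases j
        · exact absurd rfl hj
        · exact Or.inr rfl
    · rintro (⟨s, rfl⟩ | hz)
      · exact ⟨Sum.inl s, by simp, rfl⟩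
      · rw [Set.mem_singleton_iff] at hz
        rw [hz]
        exact ⟨Sum.inr 1, by simp, rfl⟩
  have h2 : Transcendental (Algebra.adjoin k (Set.range x ∪ {γ})) β := by
    have := h1.transcendental_adjoin (s := {Sum.inr 0}ᶜ) (i := Sum.inr 0) (by simp)
    rw [himg'] at this
    exact this
  have h2' : Transcendental ↥(adjoin k (Set.range x ∪ {γ})) β := h2.extendScalars _
  rw [AlgebraicIndependent.iff_transcendental_adjoin_image (Sum.inr 0)]
  refine ⟨?_, ?_⟩
  · have := h1.comp (Subtype.val : {j : σ ⊕ Fin 2 // j ≠ Sum.inr 0} → σ ⊕ Fin 2)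
      Subtype.val_injective
    convert this using 1
    funext ⟨j, hj⟩
    rcases j with s | j
    · rfl
    · fin_cases j
      · exact absurd rfl hj
      · rfl
  · rw [himg]
    show Transcendental (Algebra.adjoin k (Set.range x ∪ {γ})) ξ
    intro halg
    have halg' : IsAlgebraic ↥(adjoin k (Set.range x ∪ {γ})) ξ :=
      halg.extendScalars (by apply Subalgebra.inclusion_injective)
    have hxm : ∀ s, x s ∈ adjoin k (Set.range x ∪ {γ}) := fun s =>
      subset_adjoin k _ (Or.inl ⟨s, rfl⟩)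
    have hψE : ∀ z ∈ adjoin k (Set.range x ∪ {γ}), ψ z ∈ adjoin k (Set.range x ∪ {γ}) := by
      have hle : (adjoin k (Set.range x ∪ {γ})).map ψ.toAlgHom ≤ adjoin k (Set.range x ∪ {γ}) := by
        rw [adjoin_map, adjoin_le_iff]
        rintro _ ⟨z, (⟨s, rfl⟩ | hz), rfl⟩
        · show ψ (x s) ∈ _
          rw [hψx]
          exact add_mem (hxm s) (mul_mem (IntermediateField.algebraMap_mem _ _) (hxm i1))
        · rw [Set.mem_singleton_iff] at hz
          rw [hz]
          show ψ γ ∈ _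
          rw [hψK]
          exact subset_adjoin k _ (Or.inr rfl)
      intro z hz
      exact hle ⟨z, hz, rfl⟩
    have halgψ := isAlgebraic_map_of_map_le _ ψ hψE halg'
    rw [hψξ] at halgψ
    have hdiff : IsAlgebraic ↥(adjoin k (Set.range x ∪ {γ})) (x i1 * β) := by
      have := halgψ.sub halg'
      rwa [add_sub_cancel_left] at this
    have hx1 : x i1 ≠ 0 := by
      intro h0
      have := IsFractionRing.injective Rx Ωx (h0.trans (map_zero _).symm)
      exact MvPolynomial.X_ne_zero i1 this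
    have hβalg : IsAlgebraic ↥(adjoin k (Set.range x ∪ {γ})) β := by
      have hinv : (x i1)⁻¹ ∈ adjoin k (Set.range x ∪ {γ}) := inv_mem (hxm i1)
      have := (isAlgebraic_algebraMap (⟨(x i1)⁻¹, hinv⟩ : ↥(adjoin k (Set.range x ∪ {γ})))
        (A := Ωx)).mul hdiff
      have e : (algebraMap ↥(adjoin k (Set.range x ∪ {γ})) Ωx ⟨(x i1)⁻¹, hinv⟩) * (x i1 * β)
          = β := by
        show (x i1)⁻¹ * (x i1 * β) = β
        rw [← mul_assoc, inv_mul_cancel₀ hx1, one_mul]
      rwa [e] at this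
    exact h2' hβalg

end IndepSec

end Groth.Agent.Lib.Helper18.LinSec
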